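import Cfsg.Agent.H8.ArR

/-! The class equation for homocyclic Sylow subgroups has no solution. -/

set_option autoImplicit false

namespace Cfsg.Agent.H8.Ar

open Cfsg.Agent.H1.N1

/-- no solution of `k * u = t` in the admissible range -/
def lin (k t D C : ℤ) : Bool := if k = 0 then t != 0 else (k * (t / k) != t || t / k < 0 || D * (t / k) - C < 6)

theorem lin_ok {k t D C u : ℤ} (h : lin k t D C = true) (hu : 0 ≤ u) (e : k * u = t) (hx : 6 ≤ D * u - C) : False := by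
  subst e
  unfold lin at h
  split_ifs at h with k0
  · simp [k0] at h
  · rw [Int.mul_ediv_cancel_left _ k0] at h
    simp at h
    omega

/-- Newton iteration -/
def nw (d : ℕ) : ℕ → ℕ → ℕ
  | 0, s => s
  | k + 1, s => nw d k (min s ((s + d / s) / 2))

/-- no solution of a quadratic equation -/
def qd (a b c D C : ℤ) (s : ℕ) : Bool :=
  if a = 0 then lin b (-c) D C else (b * b - 4 * a * c < 0 || (s * s < b * b - 4 * a * c && b * b - 4 * a * c < (s + 1) * (s + 1)) ||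
    (s * s == b * b - 4 * a * c && lin (2 * a) (s - b) D C && lin (2 * a) (-s - b) D C))

theorem qd_ok {a b c D C u : ℤ} {s : ℕ} (h : qd a b c D C s = true) (hu : 0 ≤ u) (e : a * u * u + b * u + c = 0)
    (hx : 6 ≤ D * u - C) : False := by
  unfold qd at h
  split_ifs at h with a0
  · exact lin_ok h hu (by rw [a0] at e; linarith) hx
  have k : b * b - 4 * a * c = (2 * a * u + b) * (2 * a * u + b) := by linear_combination -4 * a * e
  rw [k] at h
  simp only [Bool.or_eq_true, Bool.and_eq_true, decide_eq_true_eq, beq_iff_eq] at h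
  rcases h with (h | ⟨h1, h2⟩) | ⟨⟨h1, h2⟩, h3⟩
  · exact h.not_ge (mul_self_nonneg _)
  · rw [← abs_mul_abs_self (2 * a * u + b)] at h1 h2
    have := (mul_self_lt_mul_self_iff (by positivity) (abs_nonneg _)).2 h1
    have := (mul_self_lt_mul_self_iff (abs_nonneg _) (by positivity)).2 h2
    omega
  · rcases mul_self_eq_mul_self_iff.1 h1 with h1 | h1
    exacts [lin_ok h2 hu (by linarith) hx, lin_ok h3 hu (by linarith) hx]

/-- parity indicator -/
def ep (f : ℕ) : ℤ := if f % 2 = 0 then 8 else 0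

/-- the last slot -/
def q2 (A C r D D' : ℤ) (f : ℕ) : Bool := (D' ≤ 0 && -6 < C - 1 + r) ||
  qd (D * D') (-(D * (C - 1 + r) + C * D' + A * f)) (C * (C - 1 + r) - A + 1) D' (C - 1 + r)
    ((fun d => nw d 9 (2 ^ (d.log2 / 2 + 1))) ((D * (C - 1 + r) + C * D' + A * f) ^ 2 - 4 * (D * D') * (C * (C - 1 + r) - A + 1)).toNat)

/-- the last slot -/
def q1 (A C r : ℤ) (f : ℕ) : Bool := q2 A C r (8 * A - C * f) (8 * A - C * f - ep f) f

theorem q1_ok {A C r u m : ℤ} {f : ℕ} (h : q1 A C r f = true) (hu : 0 ≤ u) (hm : 3 ≤ m)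
    (e1 : 8 * A * u = C * (f * u + 1) + (2 * m - 1 + r + ep f * u))
    (e2 : A * (f * u + 1) = 1 + 2 * m * (2 * m - 1 + r + ep f * u)) : False := by
  have hx : (8 * A - C * f - ep f) * u - (C - 1 + r) = 2 * m := by linear_combination e1
  simp only [q1, q2, Bool.or_eq_true, Bool.and_eq_true, decide_eq_true_eq] at h
  rcases h with ⟨h1, h2⟩ | h
  · nlinarith [mul_nonneg (neg_nonneg.2 h1) hu]
  · refine qd_ok h hu ?_ (by omega)
    have hw : (8 * A - C * f) * u - C = 2 * m - 1 + r + ep f * u := by linear_combination e1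
    rw [← hw, ← hx] at e2
    linear_combination -e2

/-- second level -/
def c2 (f1 f2 f3 u1 : ℕ) (n1 : ℤ) : Bool := (f1 * u1 + 1) % 2 == 0 || n1 ≤ 0 ||
  (List.range (((f1 * f2 * f3 * (f1 * u1 + 1) + 8 * f1 * (f2 + f3) * (f1 * u1 + 2) + 8 * f2 * f3) / (n1.toNat * f2)) + 1)).all fun u2 =>
    (f2 * u2 + 1) % 2 == 0 || f2 * u2 < f1 * u1 ||
      q1 ((f1 * u1 + 1) * (f2 * u2 + 1)) (5 * ((f1 * u1 + 1) * (f2 * u2 + 1)) - 8 * (u1 * (f2 * u2 + 1) + u2 * (f1 * u1 + 1)))
        (ep f1 * u1 + ep f2 * u2) f3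

/-- first level -/
def c1 (f1 f2 f3 : ℕ) : Bool := 8 * (f1 * f2 + f1 * f3 + f2 * f3) ≤ 5 * (f1 * f2 * f3) ||
  (List.range ((f1 * f2 * f3 + 16 * f1 * (f2 + f3) + 16 * f2 * f3) /
    ((8 * (f1 * f2 + f1 * f3 + f2 * f3) - 5 * (f1 * f2 * f3)) * f1) + 1)).all fun u1 =>
      c2 f1 f2 f3 u1 ((f1 * u1 + 1) * (8 * (f1 * f2 + f1 * f3 + f2 * f3) - 5 * (f1 * f2 * f3)) - 8 * f2 * f3)

theorem chk : ((List.range 3).all fun e => (List.range 3).all fun g => (List.range 655).all fun l =>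
    c1 (l + 5) (e + 2) (g + 2) && c1 (e + 2) (l + 5) (g + 2) && c1 (e + 2) (g + 2) (l + 5)) = true := by decide +kernel

end Cfsg.Agent.H8.Ar
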