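import Cfsg.Agent.H5.CKb
import Cfsg.Agent.H5.CK
import Cfsg.Agent.H8.ZS

/-! Cameron-Kantor for odd dimension at least eleven: restriction to a hyperplane and the
final reduction to the structure theorem and Perin's argument. -/

set_option autoImplicit false
set_option linter.unusedSectionVars false

namespace Cfsg.Agent.H8.Res

open Module Cfsg.Agent.H5.CK

universe u v

section
variable {F V W Γ : Type*} [Field F] [Fintype F] [AddCommGroup V] [Module F V] [Finite V]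
  [AddCommGroup W] [Module F W] [Finite W] [Group Γ] [Finite Γ]
  [DistribMulAction Γ V] [SMulCommClass Γ F V] [DistribMulAction Γ W] [SMulCommClass Γ F W]
  {B : V →ₗ[F] W →ₗ[F] F}

theorem tr_dvd (h : Hyp Γ B) (ht : Tr Γ B) :
    Fintype.card F ^ (finrank F V - 2) - 1 ∣ Nat.card Γ := by
  have d3 := h.dim
  obtain ⟨φ, hφ⟩ := h.flip.exists_not_mem 0
  have hφ := ne_zero_of_not_mem hφ
  have dk := h.toPre.finrank_ker hφ
  obtain ⟨x, x1, hx⟩ := H7.exists_mem_notMem_of_finrank_lt (U := LinearMap.ker (B.flip φ))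
    (W := ⊥) (by rw [finrank_bot]; omega)
  have hx := ne_zero_of_not_mem hx
  obtain ⟨v, v1, v2⟩ := H7.exists_mem_notMem_of_finrank_lt (U := LinearMap.ker (B.flip φ))
    (W := F ∙ x) (by rw [finrank_span_singleton hx]; omega)
  have eO : MulAction.orbit (SS Γ (F ∙ x) ⊓ SS Γ (F ∙ φ) : Subgroup Γ) v =
      (LinearMap.ker (B.flip φ) : Set V) \ (F ∙ x : Submodule F V) := by
    ext u
    constructor
    · rintro ⟨g, rfl⟩
      exact ⟨h.toPre.ker_SS g.2.2 v v1, fun e => v2 ((SS_iff g.2.1).1 e)⟩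
    · rintro ⟨u1, u2⟩
      obtain ⟨g, hg, e⟩ := ht x φ ⟨hx, hφ, x1⟩ v u v1 v2 u1 u2
      exact ⟨⟨g, hg⟩, e⟩
  have : Nat.card (MulAction.orbit (SS Γ (F ∙ x) ⊓ SS Γ (F ∙ φ) : Subgroup Γ) v) =
      Fintype.card F ^ (finrank F V - 2 + 1) - Fintype.card F := by
    rw [eO, Nat.card_coe_set_eq, Set.ncard_sdiff
      ((Submodule.span_singleton_le_iff_mem _ _).2 x1), ← Nat.card_coe_set_eq,
      ← Nat.card_coe_set_eq]
    have a := card_sub (F := F) (LinearMap.ker (B.flip φ))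
    have b := card_sub (F := F) (F ∙ x)
    rw [finrank_span_singleton hx, pow_one] at b
    rw [show finrank F (LinearMap.ker (B.flip φ)) = finrank F V - 2 + 1 by omega] at a
    exact congrArg₂ _ a b
  refine dvd_trans (b := Fintype.card F ^ (finrank F V - 2 + 1) - Fintype.card F)
    ⟨Fintype.card F, by rw [Nat.sub_mul, one_mul, pow_succ]⟩ ?_
  rw [← this]
  refine dvd_trans ?_ (Subgroup.card_subgroup_dvd_card (SS Γ (F ∙ x) ⊓ SS Γ (F ∙ φ)))
  rw [Nat.card_congr (MulAction.orbitEquivQuotientStabilizer _ v)]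
  exact Subgroup.card_quotient_dvd_card _

/-- restriction to an invariant subspace -/
def resH (Γ : Type*) [Group Γ] [Finite Γ] [DistribMulAction Γ V] [SMulCommClass Γ F V]
    (U : Submodule F V) : SS Γ U →* (U ≃ₗ[F] U) where
  toFun g := LinearEquiv.ofLinear ((lin F V g.1).restrict g.2) ((lin F V (g⁻¹).1).restrict (g⁻¹).2)
    (LinearMap.ext fun v => Subtype.ext (smul_inv_smul g.1 v.1))
    (LinearMap.ext fun v => Subtype.ext (inv_smul_smul g.1 v.1))
  map_one' := LinearEquiv.ext fun v => Subtype.ext (one_smul Γ v.1)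
  map_mul' g k := LinearEquiv.ext fun v => Subtype.ext (mul_smul g.1 k.1 v.1)

theorem resH_apply {U : Submodule F V} (g : SS Γ U) (v : U) : ((resH Γ U g v : U) : V) = g.1 • v.1 :=
  rfl

theorem hyp_res (h : Hyp Γ B) (ht : Tr Γ B) (h4 : 4 ≤ finrank F V) {φ : W} (hφ : φ ≠ 0) :
    Hyp (resH Γ (Hy B φ)).range (ev F (Hy B φ)) where
  inv g v w := congrArg (show Dual F (Hy B φ) from w) (g.1.symm_apply_apply v)
  sepV v hv := (forall_dual_apply_eq_zero_iff F v).1 hv
  sepW w hw := LinearMap.ext hw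
  scal c hc := by
    obtain ⟨g, h1, -, h2, -⟩ := h.scal_mem hc
    exact ⟨⟨_, ⟨g, h1 _⟩, rfl⟩, fun v => Subtype.ext (h2 v.1)⟩
  two x y x' y' hx hy hx' hy' := by
    have ne : ∀ {x : Hy B φ}, x ≠ 0 → x.1 ≠ 0 := fun hx e => hx (Subtype.ext e)
    have nm : ∀ {x y : Hy B φ}, y ∉ F ∙ x → y.1 ∉ F ∙ x.1 := fun hy e => by
      obtain ⟨a, ha⟩ := Submodule.mem_span_singleton.1 e
      exact hy (Submodule.mem_span_singleton.2 ⟨a, Subtype.ext ha⟩)
    obtain ⟨g, hg, e⟩ := h.flag' hφ (ne hx) (ne hx') x.2 x'.2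
    have g2 := h.toPre.ker_SS hg
    obtain ⟨k, hk, e'⟩ := ht x'.1 φ ⟨ne hx', hφ, x'.2⟩ (g • y.1) y'.1 (g2 _ y.2) (fun hc => by
      obtain ⟨a, ha⟩ := Submodule.mem_span_singleton.1 hc
      refine nm hy (Submodule.mem_span_singleton.2 ⟨a, ?_⟩)
      rw [← e, ← gsm] at ha
      exact (smul_left_cancel_iff g).1 ha) y'.2 (nm hy')
    obtain ⟨a, ha⟩ := mem_SS_span.1 hk.1
    refine ⟨⟨_, ⟨k * g, (SS Γ _).mul_mem (h.toPre.ker_SS hk.2) g2⟩, rfl⟩,
      ⟨a, Subtype.ext ?_⟩, Subtype.ext ?_⟩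
    · show (k * g) • x.1 = a • x'.1
      rw [mul_smul, e, ha]
    · show (k * g) • y.1 = y'.1
      rw [mul_smul, e']
  dim := by
    have := h.toPre.finrank_ker hφ
    show 3 ≤ finrank F (LinearMap.ker (B.flip φ))
    omega

end

/-- the structure theorem, for groups of linear maps -/
def StructH (F : Type u) [Field F] [Fintype F] : Prop :=
  ∀ (V : Type v) [AddCommGroup V] [Module F V] [Finite V] [Finite (Dl F V)]
    (Γ : Subgroup (V ≃ₗ[F] V)) [Finite Γ], Hyp Γ (ev F V) → 7 ≤ finrank F V →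
    Tr Γ (ev F V) ∨ (Odd (finrank F V) ∧ Fintype.card F ^ (finrank F V - 3) - 1 ∣ Nat.card Γ)

/-- Perin's argument, for groups of linear maps -/
def PerH (F : Type u) [Field F] [Fintype F] (V : Type v) [AddCommGroup V] [Module F V] : Prop :=
  ∀ [Finite V] [Finite (Dl F V)] (Γ : Subgroup (V ≃ₗ[F] V)) [Finite Γ], Hyp Γ (ev F V) →
    ∀ k s : ℕ, finrank F V = k + 3 → 4 ≤ k → s.Prime →
    (∀ a b : ℕ, b ≤ a → Fintype.card F ^ a ≡ Fintype.card F ^ b [MOD s] → k ∣ a - b) →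
    s ∣ Nat.card Γ → TV F V Γ

variable {F : Type u} {V : Type v} [Field F] [Fintype F] [AddCommGroup V] [Module F V]

theorem dvd_of_struct (hS : StructH.{u, v} F) [Finite V] [Finite (Dl F V)]
    (Γ : Subgroup (V ≃ₗ[F] V)) [Finite Γ] (h : Hyp Γ (ev F V)) (ho : Odd (finrank F V))
    (h9 : 9 ≤ finrank F V) : Fintype.card F ^ (finrank F V - 3) - 1 ∣ Nat.card Γ := by
  rcases hS V Γ h (by omega) with ht | ⟨-, hd⟩
  swap
  · exact hd
  obtain ⟨φ, hφ⟩ := h.flip.exists_not_mem 0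
  have hφ := ne_zero_of_not_mem hφ
  have dk : finrank F (Hy (ev F V) φ) + 1 = finrank F V := h.toPre.finrank_ker hφ
  have h' := hyp_res h ht (by omega) hφ
  have : Finite (Dl F (Hy (ev F V) φ)) :=
    Module.finite_of_finite (R := F) (M := Dual F (Hy (ev F V) φ))
  have : Finite (Hy (ev F V) φ ≃ₗ[F] Hy (ev F V) φ) :=
    Finite.of_injective _ (DFunLike.coe_injective (F := Hy (ev F V) φ ≃ₗ[F] Hy (ev F V) φ))
  rcases hS _ _ h' (by omega) with ht' | ⟨ho', -⟩
  · have := tr_dvd h' ht'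
    rw [show finrank F (Hy (ev F V) φ) - 2 = finrank F V - 3 by omega] at this
    exact this.trans ((Subgroup.card_range_dvd _).trans (Subgroup.card_subgroup_dvd_card _))
  · rw [← dk] at ho
    exact absurd ho' (Nat.odd_add_one.1 ho)

open scoped LinearAlgebra.Projectivization in
/-- Cameron-Kantor for odd dimension at least eleven, from the two packages -/
theorem ck_of [FiniteDimensional F V] (hS : StructH.{u, v} F) (hP : PerH F V)
    (ho : Odd (finrank F V)) (h11 : 11 ≤ finrank F V) (M : Subgroup (V ≃ₗ[F] V))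
    (h2 : ∀ x y x' y' : ℙ F V, x ≠ y → x' ≠ y' → ∃ g ∈ M, g • x = x' ∧ g • y = y')
    (g : V ≃ₗ[F] V) (hg : LinearEquiv.det g = 1) : g ∈ M := by
  have : Finite V := Module.finite_of_finite F
  have : Finite (Dl F V) := Module.finite_of_finite (R := F) (M := Dual F V)
  have : Finite (V ≃ₗ[F] V) := Finite.of_injective _ (DFunLike.coe_injective (F := V ≃ₗ[F] V))
  have h := hyp_withScal (by omega) M h2
  obtain ⟨s, hs, sd, H⟩ := ZS.exists_ppd7 (q := Fintype.card F) (k := finrank F V - 3)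
    Fintype.one_lt_card (by omega)
  have tv := hP _ h (finrank F V - 3) s (by omega) (by omega) hs H
    (sd.trans (dvd_of_struct hS _ h ho (by omega)))
  refine H7.mem_of_det_of_has (fun φ b hb => has_of_withScal hb ?_) g hg
  obtain ⟨t, ht⟩ := h.all_tv tv (-b) φ (by
    show φ (-b) = 0
    simp [hb])
  exact ⟨t, t.2, ht⟩

end Cfsg.Agent.H8.Res
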