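import Cfsg.Agent.Sg.Per
import Cfsg.Agent.H8.Res

/-! Cameron-Kantor in dimension seven: Perin's argument with a line. -/

set_option autoImplicit false
set_option linter.unusedSectionVars false

namespace Cfsg.Agent.H8.CK7

open Module Cfsg.Agent.H5.CK

theorem fieldC {F U N : Type*} [Field F] [Fintype F] [AddCommGroup U] [Module F U] [Finite U]
    [Group N] {k : ℕ} (hk : 0 < k) (hU : finrank F U = k) (τ : Representation F N U) (z : N)
    (irr : ∀ S : Submodule F U, (∀ u ∈ S, τ z u ∈ S) → S = ⊥ ∨ S = ⊤)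
    (hc : ∀ n, Commute (n * z * n⁻¹) z) : ∃ C : Subgroup N, (∀ a b, a * b * a⁻¹ * b⁻¹ ∈ C) ∧
      (∀ a, a ^ k ∈ C) ∧ ∀ n ∈ C, τ n ^ (Fintype.card F ^ k - 1) = 1 := by
  classical
  have : Nontrivial U := Module.nontrivial_of_finrank_pos (R := F) (by omega)
  have : Finite (Module.End F U) := Finite.of_injective _ (DFunLike.coe_injective (F := U →ₗ[F] U))
  set K := Subalgebra.centralizer F {τ z} with hK
  have mK : ∀ a, a ∈ K ↔ τ z * a = a * τ z := fun a => by
    simp [hK, Subalgebra.mem_centralizer_iff]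
  have inj : ∀ a : K, a ≠ 0 → ∀ u, (a : Module.End F U) u = 0 → u = 0 := fun a ha u hu => by
    rcases irr (LinearMap.ker (a : Module.End F U)) (fun u hu => by
      rw [LinearMap.mem_ker] at hu ⊢
      rw [← Module.End.mul_apply, ← (mK _).1 a.2, Module.End.mul_apply, hu, map_zero]) with e | e
    · have : u ∈ LinearMap.ker (a : Module.End F U) := hu
      rwa [e] at this
    · exact absurd (Subtype.ext (LinearMap.ker_eq_top.1 e)) ha
  have : NoZeroDivisors K := ⟨fun {a b} hab => by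
    by_contra hne
    push Not at hne
    refine hne.2 (Subtype.ext (LinearMap.ext fun u => inj a hne.1 _ ?_))
    exact LinearMap.congr_fun (congrArg Subtype.val hab) u⟩
  have : IsDomain K := NoZeroDivisors.to_isDomain K
  have hF := Finite.isDomain_to_isField K
  let _ := hF.toField
  obtain ⟨u₀, hu₀⟩ := exists_ne (0 : U)
  let ev : K →ₗ[F] U := (LinearMap.applyₗ u₀) ∘ₗ K.val.toLinearMap
  have evi : Function.Injective ev := (injective_iff_map_eq_zero ev).2 fun a ha => by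
    by_contra h0
    exact hu₀ (inj a h0 u₀ ha)
  have evs : LinearMap.range ev = ⊤ := by
    refine (irr _ ?_).resolve_left fun e => hu₀ ?_
    · rintro _ ⟨a, rfl⟩
      exact ⟨⟨τ z, (mK _).2 rfl⟩ * a, rfl⟩
    · have : u₀ ∈ LinearMap.range ev := ⟨1, rfl⟩
      rwa [e] at this
  have dK : finrank F K = k := by
    rw [← hU, ← LinearMap.finrank_range_of_inj evi, evs, finrank_top]
  have cj : ∀ (n : N) (a : K), τ n * a * τ n⁻¹ ∈ K := fun n a => by
    have h1 : τ (n⁻¹ * z * n⁻¹⁻¹) ∈ K := (mK _).2 (by rw [← map_mul, ← map_mul, (hc _).eq])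
    have h2 : τ (n⁻¹ * z * n⁻¹⁻¹) * a = a * τ (n⁻¹ * z * n⁻¹⁻¹) :=
      congrArg Subtype.val (hF.mul_comm ⟨_, h1⟩ a)
    rw [mK]
    calc τ z * (τ n * a * τ n⁻¹) = τ n * (τ (n⁻¹ * z * n⁻¹⁻¹) * a) * τ n⁻¹ := by
          simp only [← mul_assoc, ← map_mul]; simp
      _ = τ n * a * τ n⁻¹ * τ z := by
          rw [h2]; simp only [mul_assoc, ← map_mul]; simp
  have e1 : ∀ n : N, τ n⁻¹ * τ n = 1 := fun n => by rw [← map_mul]; simp
  have e2 : ∀ n : N, τ n * τ n⁻¹ = 1 := fun n => by rw [← map_mul]; simp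
  let c : N →* (K →ₐ[F] K) :=
    { toFun := fun n =>
        { toFun := fun a => ⟨_, cj n a⟩
          map_one' := Subtype.ext (by simp [e2])
          map_mul' := fun a b => Subtype.ext (by
            simp only [MulMemClass.coe_mul, mul_assoc]
            rw [← mul_assoc (τ n⁻¹) (τ n), e1, one_mul])
          map_zero' := Subtype.ext (by simp)
          map_add' := fun a b => Subtype.ext (by simp [mul_add, add_mul])
          commutes' := fun r => Subtype.ext (by
            simp [Algebra.algebraMap_eq_smul_one, e2]) }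
      map_one' := AlgHom.ext fun a => Subtype.ext (by simp)
      map_mul' := fun m n => AlgHom.ext fun a => Subtype.ext (by
        simp [mul_assoc]) }
  let σ : N →* (K ≃ₐ[F] K) := (AlgEquiv.algHomUnitsEquiv F K).toMonoidHom.comp c.toHomUnits
  have cG : Nat.card (K ≃ₐ[F] K) = k := (IsGalois.card_aut_eq_finrank F K).trans dK
  refine ⟨σ.ker, fun a b => ?_, fun a => ?_, fun n hn => ?_⟩
  · let _ := IsCyclic.commGroup (α := K ≃ₐ[F] K)
    rw [MonoidHom.mem_ker]
    simp only [map_mul, map_inv]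
    rw [mul_right_comm (σ a)]
    simp
  · rw [MonoidHom.mem_ker, map_pow, ← cG, pow_card_eq_one']
  rw [MonoidHom.mem_ker] at hn
  have h1 : c n = 1 := by
    have : c.toHomUnits n = 1 := (AlgEquiv.algHomUnitsEquiv F K).map_eq_one_iff.1 hn
    exact congrArg Units.val this
  have h2 : τ n ∈ K := by
    have : τ n * τ z * τ n⁻¹ = τ z :=
      congrArg Subtype.val (AlgHom.congr_fun h1 ⟨τ z, (mK _).2 rfl⟩)
    rw [mK]
    conv_lhs => rw [← this, mul_assoc, e1, mul_one]
  have h0 : (⟨τ n, h2⟩ : K) ≠ 0 := fun e => by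
    have : τ n = 0 := congrArg Subtype.val e
    have h := e2 n
    rw [this, zero_mul] at h
    exact zero_ne_one h
  have := Fintype.ofFinite K
  have := FiniteField.pow_card_sub_one_eq_one _ h0
  rw [Module.card_eq_pow_finrank (K := F), dK] at this
  exact congrArg Subtype.val this

section
variable {F V Δ : Type*} [Field F] [Fintype F] [AddCommGroup V] [Module F V] [Finite V]
  [Group Δ] [Finite Δ] [DistribMulAction Δ V] [SMulCommClass Δ F V]

theorem dim_fxl [FaithfulSMul Δ V] {k : ℕ} (hd : finrank F V = k + 2) (h4 : 3 ≤ k) {s : ℕ} (hs : s.Prime)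
    (H : ∀ a b : ℕ, b ≤ a → Fintype.card F ^ a ≡ Fintype.card F ^ b [MOD s] → k ∣ a - b)
    {z : Δ} (hz : orderOf z = s) : finrank F (Fx F V z) = 2 := by
  have h1 := fxk hs H hz (⊤ : Submodule F V) (fun _ _ => trivial)
  rw [top_inf_eq, finrank_top, hd] at h1
  have h2 : Fx F V z ≠ ⊤ := fun e => by
    have : z = 1 := FaithfulSMul.eq_of_smul_eq_smul (α := V) fun v => by
      rw [one_smul]; exact mem_Fx.1 (e ▸ Submodule.mem_top (R := F))
    rw [this, orderOf_one] at hz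
    exact hs.one_lt.ne hz
  have := Submodule.finrank_lt h2
  have := dvd_lt_two h1 (by omega)
  omega

theorem corel [FaithfulSMul Δ V] {k : ℕ} (hd : finrank F V = k + 2) (h4 : 3 ≤ k) {s : ℕ} (hs : s.Prime)
    (H : ∀ a b : ℕ, b ≤ a → Fintype.card F ^ a ≡ Fintype.card F ^ b [MOD s] → k ∣ a - b)
    {r : Δ} (hr : orderOf r = s) (hl : ∀ g : Δ, g ∈ SS Δ (Fx F V r)) {x y : V} (hx : x ≠ 0)
    (xl : x ∈ Fx F V r) (yl : y ∈ Fx F V r)
    (sp : ∀ v ∈ Fx F V r, ∃ a b : F, v = a • x + b • y)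
    (u1 : ∃ g : Δ, g • x = x ∧ g • y = y + (1 : F) • x)
    (u2 : (k : F) ≠ 0 ∨ ∃ (g : Δ) (c : F), c ≠ 0 ∧ c ^ 2 ≠ 1 ∧ g • x = c • x ∧ g • y = c⁻¹ • y) :
    TV F V Δ := by
  have dl := dim_fxl hd h4 hs H hr
  have rl : ∀ v ∈ Fx F V r, r • v = v := fun v => mem_Fx.1
  generalize Fx F V r = l at *
  let C : Subgroup Δ :=
    { carrier := {g | ∀ v ∈ l, g • v = v}
      one_mem' := fun _ _ => one_smul _ _
      mul_mem' := fun {a b} ha hb v hv => by rw [mul_smul, hb v hv, ha v hv]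
      inv_mem' := fun {a} ha v hv => by rw [inv_smul_eq_iff, ha v hv] }
  have : C.Normal := ⟨fun a ha h v hv => by
    rw [mul_smul, mul_smul, ha _ (hl h⁻¹ v hv), smul_inv_smul]⟩
  obtain ⟨z, zC, oz, N, zN, hN, fr⟩ := frat C hs (hr ▸ Subgroup.orderOf_dvd_natCard C rl)
  have el : l = Fx F V z := Submodule.eq_of_le_of_finrank_eq (fun v hv => mem_Fx.2 (zC v hv))
    (by rw [dl, dim_fxl hd h4 hs H oz])
  obtain ⟨W₀, mW, dW⟩ : ∃ W₀ : Submodule F V, (∀ w, w ∈ W₀ ↔ ∃ v, z • v - v = w) ∧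
      finrank F W₀ = k := by
    refine ⟨LinearMap.range (lin F V z - LinearMap.id), fun w => by simp, ?_⟩
    have := LinearMap.finrank_range_add_finrank_ker (lin F V z - LinearMap.id)
    have e : finrank F (LinearMap.ker (lin F V z - LinearMap.id)) = 2 := dim_fxl hd h4 hs H oz
    omega
  have cW : ∀ a : Δ, Commute a z → a ∈ SS Δ W₀ := fun a ha w hw => by
    obtain ⟨v, rfl⟩ := (mW w).1 hw
    exact (mW _).2 ⟨a • v, by rw [smul_sub, ← mul_smul, ← ha.eq, mul_smul]⟩
  have dj : ∀ S : Submodule F V, z ∈ SS Δ S → k ∣ finrank F S - finrank F (S ⊓ l : Submodule F V) :=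
    fun S hS => el ▸ fxk hs H oz S hS
  have hc : IsCompl l W₀ := by
    have h1 := dj W₀ (cW z (Commute.refl z))
    have h2 := Submodule.finrank_mono (inf_le_right : W₀ ⊓ l ≤ l)
    have h3 : finrank F (W₀ ⊓ l : Submodule F V) = 0 := by
      have := dvd_lt_two h1 (by omega)
      omega
    rw [Submodule.finrank_eq_zero, inf_comm] at h3
    refine ⟨disjoint_iff.2 h3, codisjoint_iff.2 (Submodule.eq_top_of_finrank_eq ?_)⟩
    have := Submodule.finrank_sup_add_finrank_inf_eq l W₀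
    rw [h3, finrank_bot] at this
    omega
  have NW : ∀ n ∈ N, n ∈ SS Δ W₀ := fun n hn w hw => by
    obtain ⟨v, rfl⟩ := (mW w).1 hw
    obtain ⟨u, hu, w, hw, e⟩ :=
      Submodule.mem_sup.1 (hc.sup_eq_top ▸ Submodule.mem_top (x := n • v))
    have : n • (z • v - v) = (n * z * n⁻¹) • w - w := by
      rw [smul_sub, show n • z • v = (n * z * n⁻¹) • n • v by simp [mul_smul], ← e, smul_add,
        Subgroup.Normal.conj_mem this z zC n u hu, add_sub_add_left_eq_sub]
    rw [this]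
    exact W₀.sub_mem (cW _ (hN n hn) w hw) hw
  let τ : Representation F N W₀ := (rep F V N).subrepresentation W₀ fun n => NW n n.2
  have τa : ∀ (n : N) (w : W₀), (τ n w : V) = (n : Δ) • (w : V) := fun _ _ => rfl
  obtain ⟨C₀, c1, c2, c3⟩ := fieldC (k := k) (by omega) dW τ ⟨z, zN⟩ (fun S hS => by
      have h1 := dj (S.map W₀.subtype) (by
        rintro _ ⟨u, hu, rfl⟩
        exact ⟨_, hS u hu, rfl⟩)
      have h2 : S.map W₀.subtype ⊓ l = ⊥ :=
        disjoint_iff.1 (hc.disjoint.symm.mono_left (Submodule.map_subtype_le _ _))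
      rw [h2, finrank_bot, Submodule.finrank_map_subtype_eq] at h1
      have h3 := Submodule.finrank_le S
      by_cases h0 : finrank F S = 0
      · exact Or.inl (Submodule.finrank_eq_zero.1 h0)
      · have := dvd_lt_two h1 (by omega)
        exact Or.inr (Submodule.eq_top_of_finrank_eq (by omega)))
    (fun n => Subtype.ext (hN n n.2))
  have lift : ∀ g : Δ, ∃ n : N, ∀ v ∈ l, (n : Δ) • v = g • v := fun g => by
    obtain ⟨n, hn, c, hc, rfl⟩ := fr g
    exact ⟨⟨n, hn⟩, fun v hv => by rw [mul_smul, hc v hv]⟩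
  obtain ⟨g, a1, a2⟩ := u1
  obtain ⟨a, ha⟩ := lift g
  rw [← ha x xl] at a1
  rw [← ha y yl] at a2
  obtain ⟨i, iC, d, d0, ix, iy⟩ : ∃ i ∈ C₀, ∃ d : F, d ≠ 0 ∧ (i : Δ) • x = x ∧ (i : Δ) • y = y + d • x := by
    rcases u2 with hk | ⟨g', c, c0, cc, b1, b2⟩
    · obtain ⟨e1, e2⟩ := pow_uni a1 a2 k
      exact ⟨a ^ k, c2 a, _, by simpa using hk, e1, e2⟩
    · obtain ⟨b, hb⟩ := lift g'
      rw [← hb x xl] at b1
      rw [← hb y yl] at b2
      have a1' : (a : Δ)⁻¹ • x = x := by rw [inv_smul_eq_iff, a1]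
      have a2' : (a : Δ)⁻¹ • y = y - x := by rw [inv_smul_eq_iff, smul_sub, a1, a2]; module
      have b1' : (b : Δ)⁻¹ • x = c⁻¹ • x := by rw [inv_smul_eq_iff, gsm, b1, smul_smul, inv_mul_cancel₀ c0, one_smul]
      have b2' : (b : Δ)⁻¹ • y = c • y := by rw [inv_smul_eq_iff, gsm, b2, smul_smul, mul_inv_cancel₀ c0, one_smul]
      refine ⟨a * b * a⁻¹ * b⁻¹, c1 a b, 1 - c ^ 2, fun e => cc (by linear_combination -e), ?_, ?_⟩
      · simp only [Subgroup.coe_mul, Subgroup.coe_inv, mul_smul, gsm, a1, a1', b1, b1', smul_smul,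
          inv_mul_cancel₀ c0, one_smul]
      · simp only [Subgroup.coe_mul, Subgroup.coe_inv, mul_smul, smul_sub, smul_add, gsm, a1, a2, a2', b1, b2, b2']
        match_scalars <;> field_simp
  have hi := c3 i iC
  have triv : ∀ w ∈ W₀, (i : Δ) ^ (Fintype.card F ^ k - 1) • w = w := fun w hw => by
    have t := τa (i ^ (Fintype.card F ^ k - 1)) ⟨w, hw⟩
    rw [map_pow, hi] at t
    exact t.symm
  have cast : ((Fintype.card F ^ k - 1 : ℕ) : F) = -1 := by
    rw [Nat.cast_sub (Nat.one_le_pow _ _ Fintype.card_pos)]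
    simp [show k ≠ 0 by omega]
  obtain ⟨m1, m2⟩ := pow_uni ix iy (Fintype.card F ^ k - 1)
  rw [cast] at m2
  exact tvA hc sp triv m1 m2 (by simpa using d0) hx

end

section
variable {F V W Γ : Type*} [Field F] [Fintype F] [AddCommGroup V] [Module F V] [Finite V]
  [AddCommGroup W] [Module F W] [Finite W] [Group Γ] [Finite Γ]
  [DistribMulAction Γ V] [SMulCommClass Γ F V] [DistribMulAction Γ W] [SMulCommClass Γ F W]
  {B : V →ₗ[F] W →ₗ[F] F}

theorem diag_of (h : Hyp Γ B) {x y : V} (hx : x ≠ 0) (hy : y ∉ F ∙ x) {c : F} (hc : c ≠ 0) :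
    ∃ g : Γ, g • x = c • x ∧ g • y = c⁻¹ • y := by
  have w : ∀ c : F, c ≠ 0 → ∃ g : Γ, g • x = -c⁻¹ • y ∧ g • y = c • x := fun c hc => by
    obtain ⟨u, u1, u2⟩ := h.uni hy c
    obtain ⟨v, v1, v2⟩ := h.uni (not_mem_span_symm hx hy) (-c⁻¹)
    refine ⟨u * v * u, ?_, ?_⟩
    · simp only [mul_smul, smul_add, gsm, u1, u2, v1, v2]
      match_scalars <;> field_simp <;> ring
    · simp only [mul_smul, smul_add, gsm, u1, u2, v1, v2]
      match_scalars <;> field_simp <;> ring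
  obtain ⟨g, g1, g2⟩ := w c hc
  obtain ⟨k, k1, k2⟩ := w (-1) (by simp)
  refine ⟨g * k, ?_, ?_⟩
  · rw [mul_smul, k1, gsm, g2]; simp
  · rw [mul_smul, k2, gsm, g1]; simp

/-- Perin's argument with a line -/
theorem perinL [FaithfulSMul Γ V] (h : Hyp Γ B) {k s : ℕ} (hk : finrank F V = k + 2) (h3 : 3 ≤ k) (hs : s.Prime)
    (H : ∀ a b : ℕ, b ≤ a → Fintype.card F ^ a ≡ Fintype.card F ^ b [MOD s] → k ∣ a - b) (hd : s ∣ Nat.card Γ)
    (hF : (k : F) ≠ 0 ∨ ∃ c : F, c ≠ 0 ∧ c ^ 2 ≠ 1) : TV F V Γ := by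
  have := Fact.mk hs
  obtain ⟨r, hr⟩ := exists_prime_orderOf_dvd_card' (G := Γ) s hd
  have dl := dim_fxl (V := V) hk h3 hs H hr
  obtain ⟨x, xl, hx⟩ := H7.exists_mem_notMem_of_finrank_lt (U := Fx F V r) (W := ⊥)
    (by rw [finrank_bot]; omega)
  have hx := ne_zero_of_not_mem hx
  obtain ⟨y, yl, hy⟩ := H7.exists_mem_notMem_of_finrank_lt (U := Fx F V r) (W := F ∙ x)
    (by rw [finrank_span_singleton hx]; omega)
  have sp : ∀ v ∈ Fx F V r, ∃ a b : F, v = a • x + b • y := fun v hv => by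
    obtain ⟨a, b, e⟩ := Submodule.mem_span_pair.1 (span_two_le (U := Submodule.span F {x, y}) dl hx
      hy xl yl (Submodule.subset_span (by simp)) (Submodule.subset_span (by simp)) hv)
    exact ⟨a, b, e.symm⟩
  have mem : ∀ g : Γ, g • x ∈ Fx F V r → g • y ∈ Fx F V r → g ∈ SS Γ (Fx F V r) :=
    fun g h1 h2 v hv => by
      obtain ⟨a, b, rfl⟩ := sp v hv
      rw [smul_add, gsm, gsm]
      exact Submodule.add_mem _ (Submodule.smul_mem _ _ h1) (Submodule.smul_mem _ _ h2)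
  let r' : SS Γ (Fx F V r) := ⟨r, fun v hv => by rwa [mem_Fx.1 hv]⟩
  obtain ⟨g, b, h1, h2, h3⟩ := corel (Δ := SS Γ (Fx F V r)) (r := r') hk h3 hs H
    (by rw [← Subgroup.orderOf_coe, hr]) (fun g => g.2) hx xl yl sp
    (by
      obtain ⟨g, g1, g2⟩ := h.uni hy 1
      exact ⟨⟨g, mem g (by rwa [g1]) (by
        rw [g2]; exact Submodule.add_mem _ yl (Submodule.smul_mem _ _ xl))⟩, g1, g2⟩)
    (hF.imp_right fun ⟨c, c0, cc⟩ => by
      obtain ⟨g, g1, g2⟩ := diag_of h hx hy c0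
      exact ⟨⟨g, mem g (by rw [g1]; exact Submodule.smul_mem _ _ xl)
        (by rw [g2]; exact Submodule.smul_mem _ _ yl)⟩, c, c0, cc, g1, g2⟩)
  exact ⟨g, b, h1, h2, h3⟩

end

theorem exists_ppd3 {q k : ℕ} (hq : 2 ≤ q) (hk : 3 ≤ k) (h6 : k ≠ 6) : ∃ s : ℕ, s.Prime ∧ s ∣ q ^ k - 1 ∧
    ∀ a b : ℕ, b ≤ a → q ^ a ≡ q ^ b [MOD s] → k ∣ a - b := by
  obtain ⟨s, hs, o⟩ : ∃ r : ℕ, r.Prime ∧ orderOf (q : ZMod r) = k := by
    rcases hq.eq_or_lt with rfl | hq
    · simpa using H2.Tr.bang (n := k) (by omega) h6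
    · exact ZS.zsig3 hq hk
  exact ⟨s, hs, ZS.ppd_of_order (by omega) hs o⟩

universe u v
variable {F : Type u} {V : Type v} [Field F] [Fintype F] [AddCommGroup V] [Module F V]

open scoped LinearAlgebra.Projectivization in
/-- Cameron-Kantor in dimension seven, from the structure theorem -/
theorem ck7_of [FiniteDimensional F V] (hS : Res.StructH.{u, v} F) (h7 : finrank F V = 7)
    (M : Subgroup (V ≃ₗ[F] V))
    (h2 : ∀ x y x' y' : ℙ F V, x ≠ y → x' ≠ y' → ∃ g ∈ M, g • x = x' ∧ g • y = y')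
    (g : V ≃ₗ[F] V) (hg : LinearEquiv.det g = 1) : g ∈ M := by
  have : Finite V := Module.finite_of_finite F
  have : Finite (Dl F V) := Module.finite_of_finite (R := F) (M := Dual F V)
  have : Finite (V ≃ₗ[F] V) := Finite.of_injective _ (DFunLike.coe_injective (F := V ≃ₗ[F] V))
  have h := hyp_withScal (by omega) M h2
  have tv : TV F V (withScal M) := by
    rcases hS V _ h h7.ge with ht | ⟨-, hd⟩
    · obtain ⟨s, hs, sd, H⟩ := exists_ppd3 (q := Fintype.card F) (k := 5) Fintype.one_lt_card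
        (by omega) (by omega)
      have := Res.tr_dvd h ht
      rw [h7] at this
      refine perinL h (k := 5) h7 (by omega) hs H (sd.trans this) ?_
      by_cases h5 : ((5 : ℕ) : F) = 0
      · have h5' : (5 : F) = 0 := by simpa using h5
        refine .inr ⟨2, fun e => ?_, fun e => ?_⟩
        · exact one_ne_zero (α := F) (by linear_combination h5' - 2 * e)
        · exact one_ne_zero (α := F) (by linear_combination 2 * e - h5')
      · exact .inl h5
    · obtain ⟨s, hs, sd, H⟩ := exists_ppd3 (q := Fintype.card F) (k := 4) Fintype.one_lt_card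
        (by omega) (by omega)
      rw [h7] at hd
      exact h.perin (k := 4) h7 le_rfl hs H (sd.trans hd)
  refine H7.mem_of_det_of_has (fun φ b hb => has_of_withScal hb ?_) g hg
  obtain ⟨t, ht⟩ := h.all_tv tv (-b) φ (by
    show φ (-b) = 0
    simp [hb])
  exact ⟨t, t.2, ht⟩

end Cfsg.Agent.H8.CK7
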