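import Cfsg.Agent.H8.PSa

/-! The numerical checks in middle degrees, uniprimitive case, and in small degrees. -/

set_option autoImplicit false

namespace Cfsg.Agent.H8.PS

open Finset Cfsg.Agent.H1.PS

/-- bounded quantifier -/
def al (p : ℕ → Bool) (a k : ℕ) : Bool := Nat.rec true (fun j b => p (Nat.add a j) && b) k

theorem al_ok {p : ℕ → Bool} {a k n : ℕ} (h : al p a k = true) (h1 : a ≤ n) (h2 : n < a + k) : p n = true := by
  induction k with
  | zero => omega
  | succ k ih =>
    have h' : (p (a + k) && al p a k) = true := h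
    rw [Bool.and_eq_true] at h'
    rcases Nat.lt_succ_iff_lt_or_eq.1 h2 with z | rfl
    exacts [ih h'.2 z, h'.1]

/-- the check for `BU` -/
def cu (n : ℕ) : Bool := Nat.beq (sq n fun n => (n + 2) ^ 2 * bu n (max 1 ((n - 120) / 20)) - 3 ^ n) 0

theorem cu1 : al cu 128 640 = true := by decide +kernel
theorem cu2 : al cu 768 640 = true := by decide +kernel
theorem cu3 : al cu 1408 641 = true := by decide +kernel

theorem num : NUm := fun n a b => by
  have : cu n = true := by
    by_cases h1 : n < 768
    · exact al_ok cu1 a h1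
    by_cases h2 : n < 1408
    exacts [al_ok cu2 (by omega) h2, al_ok cu3 (by omega) (by omega)]
  rw [cu, sq_eq, Nat.beq_eq, Nat.sub_eq_zero_iff_le] at this
  refine (mul_le_mul_of_nonneg_left (bu_ok (by omega) (le_max_left 1 ((n - 120) / 20))) (by positivity)).trans ?_
  exact_mod_cast this

/-- upper bound for `B2` -/
def b2 (n : ℕ) : ℕ := min n.factorial (max (n * bu (n - 1) 1) (bi n 0 1))

theorem b2_ok {n : ℕ} (h : 3 ≤ n) : B2 n ≤ b2 n := by
  have h1 := mul_le_mul_of_nonneg_left (bu_ok (n := n - 1) (by omega) le_rfl) (Nat.cast_nonneg n)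
  rw [b2, Nat.cast_min, Nat.cast_max, Nat.cast_mul]
  exact min_le_min le_rfl (max_le_max h1 (bi_ok (by omega) le_rfl))

/-- a list of primes -/
def pl : List ℕ := [5, 7, 11, 13, 17, 19, 23, 29, 31, 37, 41, 43, 47, 53, 59, 61, 67, 71, 73, 79, 83, 89, 97, 101, 103, 107, 109,
  113, 127, 131]

theorem pl_prime : ∀ p ∈ pl, p.Prime := by simp only [pl, List.forall_mem_cons]; norm_num

/-- some prime of the list excludes the pair -/
def ex (N s : ℕ) : Bool := pl.any fun p => Nat.ble (p + 3) (N + s) && Nat.blt N (p + 2)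

/-- the check in small degrees -/
def cs (N : ℕ) : Bool := Nat.beq (sq (b2 N) fun x => sq (max x (N * b2 (N - 1))) fun y => cond (ex N 17 && al (fun s =>
  Nat.blt (N + s) 9 || ex N s || Nat.ble ((N + s).factorial * x) (4 ^ (N + s) * N.factorial) ||
    Nat.ble ((N + s).factorial * y) (4 ^ (N + s) * (N.factorial * s.factorial))) 0 17) 0 1) 0

theorem cs1 : al (fun n => Nat.ble (bu n 1) (4 ^ n)) 9 121 = true := by decide +kernel
theorem cs2 : al cs 5 125 = true := by decide +kernel

theorem ns : NS := by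
  refine ⟨fun n a b => (bu_ok (by omega) le_rfl).trans (by have := al_ok (n := n) cs1 a (by omega); exact_mod_cast Nat.le_of_ble_eq_true this),
    fun N s a b c hp => ?_⟩
  have h := al_ok cs2 a b
  rw [cs, sq_eq, sq_eq, Nat.beq_eq, Bool.cond_eq_ite, ite_eq_left_iff, Bool.and_eq_true] at h
  obtain ⟨h1, h2⟩ := of_not_not (mt h one_ne_zero)
  have ne : ∀ s', s' ≤ s → ex N s' ≠ true := fun s' k z => by
    simp only [ex, List.any_eq_true, Bool.and_eq_true, Nat.ble_eq, Nat.blt_eq] at z
    obtain ⟨p, m, z1, z2⟩ := z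
    have := hp p (pl_prime p m) (by omega)
    omega
  have h3 := al_ok (n := s) h2 (Nat.zero_le _) (by by_contra k; exact ne 17 (by omega) h1)
  simp only [Bool.or_eq_true, Nat.ble_eq, Nat.blt_eq] at h3
  have k1 := b2_ok (n := N) (by omega)
  have k2 : BM N ≤ (max (b2 N) (N * b2 (N - 1)) : ℕ) := by
    rw [Nat.cast_max, Nat.cast_mul]
    exact max_le_max k1 (mul_le_mul_of_nonneg_left (b2_ok (by omega)) (Nat.cast_nonneg N))
  rcases h3 with ((h3 | h3) | h3) | h3
  · omega
  · exact absurd h3 (ne s le_rfl)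
  · exact .inl ((mul_le_mul_of_nonneg_left k1 (by positivity)).trans (by exact_mod_cast h3))
  · refine .inr ((mul_le_mul_of_nonneg_left k2 (by positivity)).trans ?_)
    rw [← Nat.add_choose_mul_factorial_mul_factorial N s] at h3
    norm_cast
    refine Nat.le_of_mul_le_mul_right (c := N.factorial * s.factorial) (le_trans (le_of_eq ?_) h3) (by positivity)
    rw [Nat.choose_symm_add]
    ring

end Cfsg.Agent.H8.PS
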