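import Cfsg.Agent.H3.S7b

/-! The field with eight elements and straight line programs for matrices over it. -/

set_option autoImplicit false

namespace Cfsg.Agent.H8.Q8

open Matrix Cfsg.Agent.H3.S7

/-- A concrete field with eight elements. -/
inductive K8 | o | i | w1 | w2 | w3 | w4 | w5 | w6
  deriving DecidableEq

namespace K8

instance instFintypeK8 : Fintype K8 := ⟨{o, i, w1, w2, w3, w4, w5, w6}, fun x => by cases x <;> decide⟩

/-- Addition table. -/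
def add : K8 → K8 → K8
  | o, x => x
  | i, o => i | i, i => o | i, w1 => w3 | i, w2 => w6 | i, w3 => w1 | i, w4 => w5 | i, w5 => w4 | i, w6 => w2
  | w1, o => w1 | w1, i => w3 | w1, w1 => o | w1, w2 => w4 | w1, w3 => i | w1, w4 => w2 | w1, w5 => w6 | w1, w6 => w5
  | w2, o => w2 | w2, i => w6 | w2, w1 => w4 | w2, w2 => o | w2, w3 => w5 | w2, w4 => w1 | w2, w5 => w3 | w2, w6 => i
  | w3, o => w3 | w3, i => w1 | w3, w1 => i | w3, w2 => w5 | w3, w3 => o | w3, w4 => w6 | w3, w5 => w2 | w3, w6 => w4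
  | w4, o => w4 | w4, i => w5 | w4, w1 => w2 | w4, w2 => w1 | w4, w3 => w6 | w4, w4 => o | w4, w5 => i | w4, w6 => w3
  | w5, o => w5 | w5, i => w4 | w5, w1 => w6 | w5, w2 => w3 | w5, w3 => w2 | w5, w4 => i | w5, w5 => o | w5, w6 => w1
  | w6, o => w6 | w6, i => w2 | w6, w1 => w5 | w6, w2 => i | w6, w3 => w4 | w6, w4 => w3 | w6, w5 => w1 | w6, w6 => o

/-- Multiplication table. -/
def mul : K8 → K8 → K8
  | o, _ => o
  | i, x => x
  | w1, o => o | w1, i => w1 | w1, w1 => w2 | w1, w2 => w3 | w1, w3 => w4 | w1, w4 => w5 | w1, w5 => w6 | w1, w6 => i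
  | w2, o => o | w2, i => w2 | w2, w1 => w3 | w2, w2 => w4 | w2, w3 => w5 | w2, w4 => w6 | w2, w5 => i | w2, w6 => w1
  | w3, o => o | w3, i => w3 | w3, w1 => w4 | w3, w2 => w5 | w3, w3 => w6 | w3, w4 => i | w3, w5 => w1 | w3, w6 => w2
  | w4, o => o | w4, i => w4 | w4, w1 => w5 | w4, w2 => w6 | w4, w3 => i | w4, w4 => w1 | w4, w5 => w2 | w4, w6 => w3
  | w5, o => o | w5, i => w5 | w5, w1 => w6 | w5, w2 => i | w5, w3 => w1 | w5, w4 => w2 | w5, w5 => w3 | w5, w6 => w4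
  | w6, o => o | w6, i => w6 | w6, w1 => i | w6, w2 => w1 | w6, w3 => w2 | w6, w4 => w3 | w6, w5 => w4 | w6, w6 => w5

/-- Inverses. -/
def inv : K8 → K8
  | o => o | i => i | w1 => w6 | w2 => w5 | w3 => w4 | w4 => w3 | w5 => w2 | w6 => w1

instance instAddK8 : Add K8 := ⟨add⟩
instance instMulK8 : Mul K8 := ⟨mul⟩
instance instNegK8 : Neg K8 := ⟨id⟩
instance instInvK8 : Inv K8 := ⟨inv⟩
instance instZeroK8 : Zero K8 := ⟨o⟩
instance instOneK8 : One K8 := ⟨i⟩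

instance instFieldK8 : Field K8 :=
  Field.ofMinimalAxioms K8 (by decide +kernel) (by decide) (by decide) (by decide +kernel) (by decide +kernel)
    (by decide) (by decide) (by decide) (by decide +kernel) ⟨o, i, by decide⟩

instance instCharK8 : CharP K8 2 :=
  CharTwo.of_one_ne_zero_of_two_eq_zero (by decide) (by rw [← one_add_one_eq_two]; decide)

/-- evaluate an element first -/
def force {β : Type} : K8 → (K8 → β) → β
  | o, k => k o | i, k => k i | w1, k => k w1 | w2, k => k w2 | w3, k => k w3 | w4, k => k w4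
  | w5, k => k w5 | w6, k => k w6

theorem force_eq {β : Type} (x : K8) (k : K8 → β) : force x k = k x := by cases x <;> rfl

end K8

open K8

/-- evaluate a vector first -/
def fV {α β : Type} (fa : α → (α → β) → β) : (n : ℕ) → (Fin n → α) → ((Fin n → α) → β) → β
  | 0, v, k => k v
  | n + 1, v, k => fa (v 0) fun a => fV fa n (fun i => v i.succ) fun t => k (Fin.cons a t)

theorem fV_eq {α β : Type} {fa : α → (α → β) → β} (h : ∀ a k, fa a k = k a) (n : ℕ) (v : Fin n → α)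
    (k : (Fin n → α) → β) : fV fa n v k = k v := by
  induction n with
  | zero => rfl
  | succ n ih => rw [fV, h, ih]; exact congrArg k (Fin.cons_self_tail v)

/-- evaluate a matrix first -/
def fM (X : M7 K8) (k : M7 K8 → Bool) : Bool := fV (fV force 7) 7 X k

theorem fM_eq (X : M7 K8) (k : M7 K8 → Bool) : fM X k = k X := fV_eq (fV_eq force_eq 7) 7 X k

/-- straight line programs -/
def run : List (ℕ × ℕ) → List (M7 K8) → M7 K8 → M7 K8 → Bool
  | [], _, X, Y => decide (X = Y)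
  | q :: p, r, _, Y => fM (r.getD q.1 1 * r.getD q.2 1) fun X => run p (r ++ [X]) X Y

theorem slp {S : Submonoid (M7 K8)} {p : List (ℕ × ℕ)} {r : List (M7 K8)} {X Y : M7 K8} (hr : ∀ X ∈ r, X ∈ S)
    (hX : X ∈ S) (h : run p r X Y = true) : Y ∈ S := by
  induction p generalizing r X with
  | nil => exact of_decide_eq_true h ▸ hX
  | cons q p ih =>
    have : ∀ n, r.getD n 1 ∈ S := fun n => by
      rw [List.getD_eq_getElem?_getD]
      cases e : r[n]? with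
      | none => exact S.one_mem
      | some Z => exact hr Z (List.mem_of_getElem? e)
    have m := S.mul_mem (this q.1) (this q.2)
    rw [run, fM_eq] at h
    exact ih (fun Z hZ => (List.mem_append.1 hZ).elim (hr Z) fun e => List.mem_singleton.1 e ▸ m) m h

/-- clock -/
def a8 : M7 K8 := (!![1, 0, 0, 0, 0, 0, 0; 0, w1, 0, 0, 0, 0, 0; 0, 0, w2, 0, 0, 0, 0; 0, 0, 0, w3, 0, 0, 0; 0, 0, 0, 0, w4, 0, 0; 0, 0, 0, 0, 0, w5, 0; 0, 0, 0, 0, 0, 0, w6] : Matrix (Fin 7) (Fin 7) K8)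
/-- shift -/
def b8 : M7 K8 := (!![0, 0, 0, 0, 0, 0, 1; 1, 0, 0, 0, 0, 0, 0; 0, 1, 0, 0, 0, 0, 0; 0, 0, 1, 0, 0, 0, 0; 0, 0, 0, 1, 0, 0, 0; 0, 0, 0, 0, 1, 0, 0; 0, 0, 0, 0, 0, 1, 0] : Matrix (Fin 7) (Fin 7) K8)
/-- quadratic phase -/
def u8 : M7 K8 := (!![1, 0, 0, 0, 0, 0, 0; 0, w4, 0, 0, 0, 0, 0; 0, 0, w2, 0, 0, 0, 0; 0, 0, 0, w1, 0, 0, 0; 0, 0, 0, 0, w1, 0, 0; 0, 0, 0, 0, 0, w2, 0; 0, 0, 0, 0, 0, 0, w4] : Matrix (Fin 7) (Fin 7) K8)
/-- Fourier matrix -/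
def f8 : M7 K8 := (!![1, 1, 1, 1, 1, 1, 1; 1, w1, w2, w3, w4, w5, w6; 1, w2, w4, w6, w1, w3, w5; 1, w3, w6, w2, w5, w1, w4; 1, w4, w1, w5, w2, w6, w3; 1, w5, w3, w1, w6, w4, w2; 1, w6, w5, w4, w3, w2, w1] : Matrix (Fin 7) (Fin 7) K8)
/-- negation -/
def z8 : M7 K8 := (!![1, 0, 0, 0, 0, 0, 0; 0, 0, 0, 0, 0, 0, 1; 0, 0, 0, 0, 0, 1, 0; 0, 0, 0, 0, 1, 0, 0; 0, 0, 0, 1, 0, 0, 0; 0, 0, 1, 0, 0, 0, 0; 0, 1, 0, 0, 0, 0, 0] : Matrix (Fin 7) (Fin 7) K8)
/-- multiplication by three -/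
def h8 : M7 K8 := (!![1, 0, 0, 0, 0, 0, 0; 0, 0, 0, 0, 0, 1, 0; 0, 0, 0, 1, 0, 0, 0; 0, 1, 0, 0, 0, 0, 0; 0, 0, 0, 0, 0, 0, 1; 0, 0, 0, 0, 1, 0, 0; 0, 0, 1, 0, 0, 0, 0] : Matrix (Fin 7) (Fin 7) K8)
/-- basis of the small invariant subspace -/
def io : Matrix I (Fin 3) K8 := (!![0, 0, 0; 1, 0, 0; 0, 1, 0; 0, 0, 1; 0, 0, 1; 0, 1, 0; 1, 0, 0] : Matrix (Fin 7) (Fin 3) K8)
/-- coordinates modulo the small invariant subspace -/
def ka : Matrix (Fin 4) I K8 := (!![1, 0, 0, 0, 0, 0, 0; 0, 1, 0, 0, 0, 0, 1; 0, 0, 1, 0, 0, 1, 0; 0, 0, 0, 1, 1, 0, 0] : Matrix (Fin 4) (Fin 7) K8)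

abbrev M34 := Matrix (Fin 3) (Fin 4) K8

/-- the unipotent element with given data -/
def Gm (η : M34) : M7 K8 := 1 + io * η * ka

/-- diagonal data -/
def dg (a b c : K8) : M34 := !![0, a, 0, 0; 0, 0, b, 0; 0, 0, 0, c]
/-- the exceptional data -/
def e0 (a b c : K8) : M34 := !![a, 0, b, 0; b, 0, 0, c; c, a, 0, 0]

/-- programs producing root elements -/
def progs : List ((K8 × K8 × K8) × List (ℕ × ℕ) × I × I × K8) := [
  ((w1, w1, w1), [(6,0), (7,6), (8,0), (9,0), (10,6), (11,0), (12,0), (13,6), (14,14), (15,14), (16,16), (17,14), (18,18), (19,19), (20,20), (21,18)], 5, 2, w6),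
  ((w3, w3, w3), [(6,0), (7,6), (8,4), (9,0), (10,0), (11,6), (12,0), (13,13), (14,13), (15,15), (16,13), (17,17), (18,18), (19,19), (20,17)], 3, 4, w4),
  ((w2, w2, w2), [(6,0), (7,6), (8,0), (9,0), (10,6), (11,0), (12,0), (13,6), (14,14), (15,14), (16,16), (17,14), (18,18), (19,19), (20,20), (21,18)], 3, 4, w5),
  ((w6, w6, w6), [(6,0), (7,6), (8,4), (9,0), (10,0), (11,6), (12,0), (13,13), (14,13), (15,15), (16,13), (17,17), (18,18), (19,19), (20,17)], 6, 1, w1),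
  ((w4, w4, w4), [(6,0), (7,6), (8,0), (9,0), (10,6), (11,0), (12,0), (13,6), (14,14), (15,14), (16,16), (17,14), (18,18), (19,19), (20,20), (21,18)], 6, 1, w3),
  ((w5, w5, w5), [(6,0), (7,6), (8,4), (9,0), (10,0), (11,6), (12,0), (13,13), (14,13), (15,15), (16,13), (17,17), (18,18), (19,19), (20,17)], 5, 2, w2),
  ((1, w5, w4), [(6,4), (7,5), (8,0), (9,5), (10,6), (11,5), (12,12), (13,12), (14,14), (15,12), (16,16), (17,17), (18,18), (19,16)], 4, 3, w5),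
  ((w1, w6, w5), [(6,0), (7,5), (8,6), (9,0), (10,5), (11,5), (12,12), (13,12), (14,14), (15,12), (16,16), (17,17), (18,18), (19,16)], 6, 1, w4),
  ((w3, w1, 1), [(6,0), (7,4), (8,5), (9,5), (10,6), (11,5), (12,12), (13,12), (14,14), (15,12), (16,16), (17,17), (18,18), (19,16)], 2, 5, w3),
  ((w2, 1, w6), [(6,0), (7,4), (8,5), (9,6), (10,5), (11,5), (12,12), (13,12), (14,14), (15,12), (16,16), (17,17), (18,18), (19,16)], 3, 4, w6),
  ((w6, w4, w3), [(6,0), (7,5), (8,6), (9,5), (10,0), (11,5), (12,12), (13,12), (14,14), (15,12), (16,16), (17,17), (18,18), (19,16)], 4, 3, w6),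
  ((w4, w2, w1), [(6,0), (7,5), (8,6), (9,5), (10,0), (11,5), (12,12), (13,12), (14,14), (15,12), (16,16), (17,17), (18,18), (19,16)], 6, 1, w4),
  ((w5, w3, w2), [(6,5), (7,0), (8,6), (9,5), (10,5), (11,0), (12,12), (13,12), (14,14), (15,12), (16,16), (17,17), (18,18), (19,16)], 6, 1, w3)]

theorem progs_ok : ∀ t ∈ progs, t.2.2.1 ≠ t.2.2.2.1 ∧ t.2.2.2.2 ≠ 0 ∧ fM (Gm (dg t.1.1 t.1.2.1 t.1.2.2)) (fun X =>
    run t.2.1 [a8, b8, u8, f8, z8, h8, X] 1 (1 + single t.2.2.1 t.2.2.2.1 t.2.2.2.2)) = true := by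
  decide +kernel

theorem progX : fM (Gm (e0 1 1 1)) (fun X => run [(6, 1), (7, 4), (8, 8), (9, 8), (10, 10), (11, 11), (3, 12), (13, 3), (14, 4), (0, 0), (16, 0), (16, 16), (17, 17), (17, 15), (20, 18), (0, 15), (22, 19), (21, 23), (24, 15), (0, 2), (26, 26), (27, 26), (27, 27), (29, 26), (28, 28), (26, 25), (32, 31), (33, 25), (28, 34), (35, 29), (27, 34), (37, 30), (36, 38), (39, 34)] [a8, b8, u8, f8, z8, h8, X] 1 (1 + single 3 0 w6)) = true := by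
  decide +kernel

end Cfsg.Agent.H8.Q8
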